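import Mathlib.AlgebraicGeometry.Morphisms.QuasiFinite
import Mathlib.AlgebraicGeometry.Morphisms.Finite
import Mathlib.Topology.KrullDimension

/-!
# A finite morphism does not raise the dimension
-/

universe u

open CategoryTheory AlgebraicGeometry TopologicalSpace

namespace Groth.Agent.FinDim

theorem topologicalKrullDim_le_of_isFinite {X Y : Scheme.{u}} (f : X ⟶ Y) [IsFinite f] :
    topologicalKrullDim X ≤ topologicalKrullDim Y := by
  refine Order.krullDim_le_of_strictMono (IrreducibleCloseds.map f f.continuous) fun Z Z' hlt => ?_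
  refine lt_of_le_of_ne (IrreducibleCloseds.map_mono f.continuous hlt.le) fun heq => ?_
  have h : closure (f '' (Z : Set X)) = closure (f '' (Z' : Set X)) := congrArg (fun T : IrreducibleCloseds Y => (T : Set Y)) heq
  rw [(f.isClosedMap _ Z.isClosed).closure_eq, (f.isClosedMap _ Z'.isClosed).closure_eq] at h
  have hη := Z'.isIrreducible.isGenericPoint_genericPoint Z'.isClosed
  obtain ⟨z, hz, hfz⟩ : f Z'.isIrreducible.genericPoint ∈ f '' (Z : Set X) := h ▸ ⟨_, hη.mem, rfl⟩
  have hspec : Z'.isIrreducible.genericPoint ⤳ z := hη.specializes (hlt.le hz)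
  haveI := (f.isDiscrete_preimage_singleton (f Z'.isIrreducible.genericPoint)).to_subtype
  have heq' : (⟨Z'.isIrreducible.genericPoint, rfl⟩ : f ⁻¹' {f Z'.isIrreducible.genericPoint}) = ⟨z, hfz⟩ :=
    ((subtype_specializes_iff _ _).2 hspec).eq
  refine hlt.ne (SetLike.coe_injective (Set.Subset.antisymm hlt.le ?_))
  rw [← show closure {Z'.isIrreducible.genericPoint} = (Z' : Set X) from hη.def]
  exact Z.isClosed.closure_subset_iff.2 (Set.singleton_subset_iff.2 ((show Z'.isIrreducible.genericPoint = z from congrArg Subtype.val heq').symm ▸ hz))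

end Groth.Agent.FinDim
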